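import Mathlib
import Groth.Prelude
import Groth.Agent.Lib.Helper7.CohStalk.Support
import Groth.Agent.Lib.Helper7.CohStalk.Finite
import Groth.Agent.Lib.Helper7.CohStalk.Zero
import Groth.Agent.Lib.Helper7.CohStalk.Tilde
import Groth.Agent.Lib.Helper7.CohStalk.Pushforward
import Groth.Agent.Lib.Helper7.CohStalk.AssOpen
import Groth.Agent.Lib.Helper8.ABS19
import Groth.Agent.Lib.Helper8.FlatReg8
import Groth.Agent.Lib.Helper8.RegularLocal
import Groth.Agent.Lib.Helper1.FpLocal
import Groth.Agent.S9806

set_option linter.style.haveILetI false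
set_option linter.unusedVariables false
set_option linter.unusedSectionVars false
set_option autoImplicit false
set_option backward.isDefEq.respectTransparency.types false
set_option synthInstance.maxHeartbeats 400000
set_option maxHeartbeats 800000

universe u

/-! helper7: On a regular scheme a coherent module has full support and Cohen-Macaulay stalks iff it is finite locally free of positive rank; germs with zero annihilator at points with integral local ring; retracts and stalks. -/
open CategoryTheory CategoryTheory.Limits AlgebraicGeometry TopologicalSpace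
open Groth.Agent.Helper7.FinType

namespace Groth.Agent.Helper7.CMFree

/-- a module with an element of zero annihilator has full support dimension -/
theorem supportDim_eq_of_exists {R M : Type u} [CommRing R] [AddCommGroup M] [Module R M]
    (m : M) (hm : ∀ r : R, r • m = 0 → r = 0) : Module.supportDim R M = ringKrullDim R := by
  refine le_antisymm (Module.supportDim_le_ringKrullDim R M) ?_
  rw [← Module.supportDim_self_eq_ringKrullDim]
  refine Module.supportDim_le_of_injective (LinearMap.toSpanSingleton R M m) ?_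
  rw [← LinearMap.ker_eq_bot, LinearMap.ker_eq_bot']
  intro r hr
  exact hm r hr

/-- On a scheme, at a point with integral local ring, a quasi-coherent module whose stalks at all
generizations are nonzero has a germ with zero annihilator. -/
theorem exists_germ_annihilator_zero {X : Scheme.{u}} (F : X.Modules)
    (hq : SheafOfModules.IsQuasicoherent.{u, u, u} F) (x : X) [IsDomain (X.presheaf.stalk x)]
    (hs : ∀ y : X, y ⤳ x → ¬ Subsingleton (F.presheaf.stalk y)) :
    ∃ m : F.presheaf.stalk x, ∀ r : X.presheaf.stalk x, r • m = 0 → r = 0 := by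
  obtain ⟨_, ⟨U, hU, rfl⟩, hxU', -⟩ :=
    (X.isBasis_affineOpens).exists_subset_of_mem_open (Set.mem_univ x) isOpen_univ
  have hxU : x ∈ U := hxU'
  set p := hU.primeIdealOf ⟨x, hxU⟩ with hp
  obtain ⟨q, hqmin, hqle⟩ := Ideal.exists_minimalPrimes_le (bot_le : (⊥ : Ideal Γ(X, U)) ≤ p.asIdeal)
  haveI hqprime : q.IsPrime := hqmin.1.1
  set η : X := hU.fromSpec ⟨q, hqprime⟩ with hη
  have hηU : η ∈ U := fromSpec_mem hU ⟨q, hqprime⟩
  have hηp : hU.primeIdealOf ⟨η, hηU⟩ = ⟨q, hqprime⟩ := primeIdealOf_fromSpec hU _ hηU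
  have hspec : η ⤳ x := by
    rw [← primeIdealOf_le_iff_specializes hU η x hηU hxU, hηp]
    exact hqle
  -- elements of q have zero germ at x
  letI := TopCat.Presheaf.algebra_section_stalk X.presheaf ⟨x, hxU⟩
  have key1 : ∀ a ∈ q, X.presheaf.germ U x hxU a = 0 := by
    intro a ha
    obtain ⟨g, hg, k, hk⟩ := exists_notMem_mul_pow_mem_of_mem_minimalPrimes hqmin ha
    rw [Ideal.mem_bot] at hk
    have h1 : X.presheaf.germ U x hxU g * (X.presheaf.germ U x hxU a) ^ k = 0 := by
      rw [← map_pow, ← map_mul, hk, map_zero]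
    rcases mul_eq_zero.mp h1 with h2 | h2
    · exfalso
      -- g has zero germ at x, so is killed by some t outside p
      haveI := hU.isLocalization_stalk ⟨x, hxU⟩
      have h3 : algebraMap Γ(X, U) (X.presheaf.stalk x) g = 0 := h2
      rw [IsLocalization.map_eq_zero_iff p.asIdeal.primeCompl] at h3
      obtain ⟨t, ht⟩ := h3
      have htq : t.1 ∉ q := fun h => t.2 (hqle h)
      have : t.1 * g ∈ q := by rw [ht]; exact q.zero_mem
      rcases hqprime.mem_or_mem this with h4 | h4
      · exact htq h4
      · exact hg h4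
    · exact eq_zero_of_pow_eq_zero h2
  -- a nonzero germ at η
  have hne := hs η hspec
  rw [not_subsingleton_iff_nontrivial] at hne
  obtain ⟨μ, hμ⟩ := exists_ne (0 : F.presheaf.stalk η)
  obtain ⟨n, f, hf, hn⟩ := exists_germ_smul_eq F hq hU η hηU μ
  have hnη : F.presheaf.germ U η hηU n ≠ 0 := by
    intro h0
    rw [h0] at hn
    exact hμ (eq_zero_of_isUnit_smul_eq_zero hf hn)
  refine ⟨F.presheaf.germ U x hxU n, ?_⟩
  intro r hr
  haveI := hU.isLocalization_stalk ⟨x, hxU⟩
  obtain ⟨⟨a, s⟩, has⟩ := IsLocalization.surj p.asIdeal.primeCompl r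
  have has' : r * X.presheaf.germ U x hxU s.1 = X.presheaf.germ U x hxU a := has
  have hsu : IsUnit (X.presheaf.germ U x hxU s.1) :=
    (notMem_primeIdealOf_iff hU x hxU s.1).mp s.2
  have h1 : X.presheaf.germ U x hxU a • F.presheaf.germ U x hxU n = 0 := by
    rw [← has', mul_comm, mul_smul, hr, smul_zero]
  rw [← germ_smul] at h1
  obtain ⟨g, hg, hgn⟩ := exists_smul_eq_zero_of_germ_eq_zero F hq hU x hxU (a • n) h1
  have hgp : g ∉ p.asIdeal := (notMem_primeIdealOf_iff hU x hxU g).mpr hg
  have hgq : g ∉ q := fun h => hgp (hqle h)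
  by_cases haq : a ∈ q
  · have h2 := key1 a haq
    have h3 : r * X.presheaf.germ U x hxU s.1 = 0 := by rw [has']; exact h2
    exact (hsu.mul_left_eq_zero).mp h3
  · exfalso
    have hgu : IsUnit (X.presheaf.germ U η hηU g) :=
      (notMem_primeIdealOf_iff hU η hηU g).mp (by rw [hηp]; exact hgq)
    have hau : IsUnit (X.presheaf.germ U η hηU a) :=
      (notMem_primeIdealOf_iff hU η hηU a).mp (by rw [hηp]; exact haq)
    have h4 : X.presheaf.germ U η hηU g •
        (X.presheaf.germ U η hηU a • F.presheaf.germ U η hηU n) = 0 := by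
      rw [← germ_smul, ← germ_smul, hgn, map_zero]
    exact hnη (eq_zero_of_isUnit_smul_eq_zero hau (eq_zero_of_isUnit_smul_eq_zero hgu h4))

theorem app_naturality {X : Scheme.{u}} {M N : X.Modules} (m : M ⟶ N) {V V' : X.Opens}
    (i : V ⟶ V') : M.presheaf.map i.op ≫ m.app V = m.app V' ≫ N.presheaf.map i.op :=
  m.mapPresheaf.naturality i.op

/-- A retract of a module with vanishing stalk has vanishing stalk. -/
theorem subsingleton_stalk_of_retract {X : Scheme.{u}} {M N : X.Modules} (φ : M ⟶ N) (ψ : N ⟶ M)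
    (h : φ ≫ ψ = 𝟙 M) (y : X) (hN : Subsingleton (N.presheaf.stalk y)) :
    Subsingleton (M.presheaf.stalk y) := by
  refine ⟨fun a b => ?_⟩
  suffices h0 : ∀ a : M.presheaf.stalk y, a = 0 by rw [h0 a, h0 b]
  intro a
  obtain ⟨V, hyV, s, rfl⟩ := TopCat.Presheaf.exists_germ_eq M.presheaf a
  have h1 : N.presheaf.germ V y hyV (φ.app V s) = N.presheaf.germ V y hyV 0 :=
    Subsingleton.elim _ _
  obtain ⟨W, hyW, i1, i2, h2⟩ := TopCat.Presheaf.germ_eq N.presheaf y hyV hyV _ _ h1
  rw [map_zero] at h2
  have h3 : M.presheaf.map i1.op s = 0 := by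
    have h4 : ψ.app W (φ.app W (M.presheaf.map i1.op s)) = M.presheaf.map i1.op s := by
      have : (φ ≫ ψ).app W (M.presheaf.map i1.op s) = M.presheaf.map i1.op s := by
        rw [h]; rfl
      exact this
    have h5 : φ.app W (M.presheaf.map i1.op s) = N.presheaf.map i1.op (φ.app V s) := by
      have := app_naturality φ i1
      exact congrArg (fun f => f s) (congrArg (fun f => (ConcreteCategory.hom f : _ → _)) this)
    rw [← h4, h5, h2, map_zero]
  rw [← TopCat.Presheaf.germ_res_apply M.presheaf i1 y hyW s, h3, map_zero]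

theorem isZero_freeMod_zero (Y : Scheme.{u}) : IsZero (FlatMod.freeMod Y 0) := by
  rw [IsZero.iff_id_eq_zero]
  apply Sigma.hom_ext
  intro j
  exact j.elim0

/-- the stalk of the structure module is nontrivial -/
theorem not_subsingleton_stalk_structureModule (Y : Scheme.{u}) (y : Y) :
    ¬ Subsingleton ((Coh.structureModule Y).presheaf.stalk y) := by
  intro hs
  have h1 : (Coh.structureModule Y).presheaf.germ ⊤ y trivial (1 : Γ(Y, ⊤)) =
      (Coh.structureModule Y).presheaf.germ ⊤ y trivial (0 : Γ(Y, ⊤)) := Subsingleton.elim _ _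
  obtain ⟨W, hyW, i1, i2, h2⟩ :=
    TopCat.Presheaf.germ_eq (Coh.structureModule Y).presheaf y
      (show y ∈ (⊤ : Y.Opens) from trivial) (show y ∈ (⊤ : Y.Opens) from trivial) _ _ h1
  have h3 : (1 : Γ(Y, W)) = 0 := by
    have e1 : (Coh.structureModule Y).presheaf.map i1.op (1 : Γ(Y, ⊤)) = (1 : Γ(Y, W)) :=
      map_one (Y.presheaf.map i1.op).hom
    have e2 : (Coh.structureModule Y).presheaf.map i2.op (0 : Γ(Y, ⊤)) = (0 : Γ(Y, W)) :=
      map_zero (Y.presheaf.map i2.op).hom
    rw [← e1, ← e2]
    exact h2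
  haveI : Nonempty W := ⟨⟨y, hyW⟩⟩
  exact one_ne_zero h3

theorem main (X : Scheme.{u}) [IsLocallyNoetherian X]
    (hreg : ∀ x : X, IsRegularLocalRing (X.presheaf.stalk x)) (F : X.Modules) (hF : Coh.IsCoh F) :
    (CohB1.support F = Set.univ ∧
        ∀ x : X, LocCoh.IsCohenMacaulayModule (X.presheaf.stalk x) ↑(F.presheaf.stalk x)) ↔
      ∀ x : X, ∃ (U : X.Opens) (n : ℕ), x ∈ U ∧ 0 < n ∧
        Nonempty (F.restrict U.ι ≅ FlatMod.freeMod (↑U) n) := by
  have hqc : Coh.IsQCoh F := hF.1
  have hfin : ∀ x, Module.Finite (X.presheaf.stalk x) (F.presheaf.stalk x) :=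
    stalk_finite_of_isCoh F hF
  constructor
  · rintro ⟨hsupp, hCM⟩
    have hfree : ∀ x : X, Module.Free (X.presheaf.stalk x) (F.presheaf.stalk x) := by
      intro x
      haveI := hreg x
      haveI : IsDomain (X.presheaf.stalk x) := Groth.Agent.Helper8.RLR.isDomain _
      haveI := hfin x
      obtain ⟨m, hm⟩ := exists_germ_annihilator_zero F hqc x (fun y _ => by
        have : y ∈ CohB1.support F := by rw [hsupp]; trivial
        exact this)
      have h1 := supportDim_eq_of_exists m hm
      have h2 := hCM x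
      apply Groth.Agent.Helper8.FlatReg.free_of_depth_eq_dim
      rw [← h1]
      exact h2.symm
    have hFP : CohB1.IsFP F := Groth.Agent.Helper1.FpLocal.isFP_of_isCoh F hF
    have hlf : FlatMod.IsFinLocFree F := (Groth.Agent.S9806.result X F hqc).mp ⟨hFP, hfree⟩
    intro x
    obtain ⟨U, n, hxU, ⟨e⟩⟩ := hlf x
    refine ⟨U, n, hxU, ?_, ⟨e⟩⟩
    by_contra hn
    have hn0 : n = 0 := by omega
    subst hn0
    have hz' : IsZero (F.restrict U.ι) := (isZero_freeMod_zero _).of_iso e
    have h3 := subsingleton_stalk_of_isZero _ hz' ⟨x, hxU⟩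
    have h4 : Subsingleton (F.presheaf.stalk x) := by
      let e' := restrictStalkIso U.ι F ⟨x, hxU⟩
      refine ⟨fun a b => ?_⟩
      have ha : e'.hom (e'.inv a) = a := by
        rw [← ConcreteCategory.comp_apply, e'.inv_hom_id]; rfl
      have hb : e'.hom (e'.inv b) = b := by
        rw [← ConcreteCategory.comp_apply, e'.inv_hom_id]; rfl
      rw [← ha, ← hb, Subsingleton.elim (e'.inv a) (e'.inv b)]
    have : x ∈ CohB1.support F := by rw [hsupp]; trivial
    exact this h4
  · intro h
    have hlf : FlatMod.IsFinLocFree F := fun x => by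
      obtain ⟨U, n, hx, -, e⟩ := h x
      exact ⟨U, n, hx, e⟩
    obtain ⟨hFP, hfree⟩ := (Groth.Agent.S9806.result X F hqc).mpr hlf
    have hnt : ∀ x, ¬ Subsingleton (F.presheaf.stalk x) := by
      intro x hsub
      obtain ⟨U, n, hxU, hn, ⟨e⟩⟩ := h x
      -- the stalk of the restriction is also trivial
      have h1 : Subsingleton ((F.restrict U.ι).presheaf.stalk ⟨x, hxU⟩) :=
        @Equiv.subsingleton _ _
          (restrictStalkIso U.ι F ⟨x, hxU⟩).addCommGroupIsoToAddEquiv.toEquiv hsub
      have h2 : Subsingleton ((FlatMod.freeMod (↑U) n).presheaf.stalk ⟨x, hxU⟩) :=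
        subsingleton_stalk_of_retract e.inv e.hom e.inv_hom_id _ h1
      -- the structure module is a retract of the free module
      classical
      let j0 : Fin n := ⟨0, hn⟩
      let ι0 : Coh.structureModule (↑U) ⟶ FlatMod.freeMod (↑U) n :=
        Sigma.ι (fun _ : Fin n => Coh.structureModule (↑U)) j0
      let π0 : FlatMod.freeMod (↑U) n ⟶ Coh.structureModule (↑U) :=
        Sigma.desc (fun j => if j = j0 then 𝟙 _ else 0)
      have hι : ι0 ≫ π0 = 𝟙 _ := by
        simp [ι0, π0]
      exact not_subsingleton_stalk_structureModule _ _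
        (subsingleton_stalk_of_retract ι0 π0 hι _ h2)
    refine ⟨?_, ?_⟩
    · ext x
      simp only [CohB1.support, Set.mem_ofPred_eq, Set.mem_univ, iff_true]
      exact hnt x
    · intro x
      haveI := hreg x
      haveI := hfin x
      haveI := hfree x
      haveI : Nontrivial (F.presheaf.stalk x) := not_subsingleton_iff_nontrivial.mp (hnt x)
      unfold LocCoh.IsCohenMacaulayModule
      rw [Groth.Agent.Helper8.ABS.depth_of_free, Groth.Agent.Helper8.ABS.depth_eq_dim_of_regular]
      -- a basis element has zero annihilator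
      let b := Module.Free.chooseBasis (X.presheaf.stalk x) (F.presheaf.stalk x)
      haveI : Nonempty (Module.Free.ChooseBasisIndex (X.presheaf.stalk x) (F.presheaf.stalk x)) := by
        by_contra hne
        rw [not_nonempty_iff] at hne
        exact hnt x (b.repr.toEquiv.subsingleton)
      obtain ⟨i⟩ := this
      refine supportDim_eq_of_exists (b i) ?_
      intro r hr
      have h5 := congrArg (fun v => b.repr v i) hr
      simpa using h5

end Groth.Agent.Helper7.CMFree
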